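-- helper20: SUG2 (S2412 block [II]) package [II-COMBSTEP]: all even-weight vectors.
import Mathlib
import Cfsg.Agent.Lib.Helper71.SUG2.Defs

set_option autoImplicit false

namespace Cfsg.Agent.Lib.Helper20.SUG2

open Cfsg.Agent.Lib.Helper71.SUG2

universe u

section supp

variable {n : ℕ} {F : Type u} [Field F]

open Classical in
/-- the support of a vector. -/
noncomputable def supp (v : Fin n → F) : Finset (Fin n) :=
  Finset.univ.filter (fun i => v i ≠ 0)

theorem weight_eq (v : Fin n → F) : weight v = (supp v).card := by
  unfold weight supp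
  congr

theorem mem_supp (v : Fin n → F) (i : Fin n) : i ∈ supp v ↔ v i ≠ 0 := by
  unfold supp
  simp

end supp

/-- [II-COMBSTEP] -/
theorem pkgCombStep : PkgCombStep.{u} := by
  intro F _ _ hF n C hC hpair h4 v hv
  classical
  have h2 : (2 : F) = 0 := f4_two hF
  have hadd : ∀ x : F, x + x = 0 := by
    intro x
    have : x + x = 2 * x := by ring
    rw [this, h2, zero_mul]
  obtain ⟨α, hα⟩ := f4_alpha hF
  have hα0 : α ≠ 0 := by
    rintro rfl
    simp at hα
  have hα3 : α ^ 3 = 1 := by
    have : (α - 1) * (α ^ 2 + α + 1) = 0 := by rw [hα, mul_zero]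
    linear_combination this
  -- strong induction on the weight
  obtain ⟨k, hk⟩ : ∃ k, weight v = k := ⟨_, rfl⟩
  induction k using Nat.strong_induction_on generalizing v with
  | _ k ih =>
    rw [hk] at hv
    rw [weight_eq] at hk
    by_cases hk0 : k = 0
    · -- v = 0
      have : v = 0 := by
        funext i
        by_contra hi
        have : i ∈ supp v := (mem_supp v i).mpr hi
        rw [hk0, Finset.card_eq_zero] at hk
        rw [hk] at this
        exact absurd this (Finset.notMem_empty i)
      rw [this]
      exact hC.zero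
    by_cases hk2 : k = 2
    · rw [hk2, Finset.card_eq_two] at hk
      obtain ⟨i, j, hij, hS⟩ := hk
      have hi : v i ≠ 0 := (mem_supp v i).mp (by rw [hS]; simp)
      have hj : v j ≠ 0 := (mem_supp v j).mp (by rw [hS]; simp)
      have hrest : ∀ l, l ≠ i → l ≠ j → v l = 0 := by
        intro l hli hlj
        by_contra hl
        have : l ∈ supp v := (mem_supp v l).mpr hl
        rw [hS] at this
        simp at this
        rcases this with h | h
        · exact hli h
        · exact hlj h
      have hvv : v = v i • (E i + (v j / v i) • E j : Fin n → F) := by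
        funext l
        by_cases hli : l = i
        · subst hli
          simp [E, Pi.single_apply, hij]
        · by_cases hlj : l = j
          · subst hlj
            simp [E, Pi.single_apply, hli]
            field_simp
          · rw [hrest l hli hlj]
            simp [E, Pi.single_apply, hli, hlj]
      rw [hvv]
      exact hC.scal _ (hpair i j hij _ (div_ne_zero hj hi)) _ hi
    by_cases hk4 : k = 4
    · apply h4
      rw [weight_eq, hk, hk4]
    -- k ≥ 6
    have hk6 : 6 ≤ k := by
      obtain ⟨r, hr⟩ := hv
      omega
    obtain ⟨i1, hi1⟩ : (supp v).Nonempty := Finset.card_pos.mp (by omega)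
    have hc1 : ((supp v).erase i1).card = k - 1 := by
      rw [Finset.card_erase_of_mem hi1, hk]
    obtain ⟨i2, hi2⟩ : ((supp v).erase i1).Nonempty := Finset.card_pos.mp (by omega)
    have hc2 : (((supp v).erase i1).erase i2).card = k - 2 := by
      rw [Finset.card_erase_of_mem hi2, hc1]; omega
    obtain ⟨i3, hi3⟩ : (((supp v).erase i1).erase i2).Nonempty := Finset.card_pos.mp (by omega)
    have hc3 : ((((supp v).erase i1).erase i2).erase i3).card = k - 3 := by
      rw [Finset.card_erase_of_mem hi3, hc2]; omega
    obtain ⟨i4, hi4⟩ : ((((supp v).erase i1).erase i2).erase i3).Nonempty :=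
      Finset.card_pos.mp (by omega)
    simp only [Finset.mem_erase] at hi2 hi3 hi4
    obtain ⟨h21, hi2S⟩ := hi2
    obtain ⟨h32, h31, hi3S⟩ := hi3
    obtain ⟨h43, h42, h41, hi4S⟩ := hi4
    have hv1 : v i1 ≠ 0 := (mem_supp v i1).mp hi1
    have hv2 : v i2 ≠ 0 := (mem_supp v i2).mp hi2S
    have hv3 : v i3 ≠ 0 := (mem_supp v i3).mp hi3S
    have hv4 : v i4 ≠ 0 := (mem_supp v i4).mp hi4S
    -- the weight-4 vector
    obtain ⟨f, hf⟩ : ∃ f : Fin n → F, f = fun l => if l = i1 then v i1 else if l = i2 then v i2
        else if l = i3 then α ^ 2 * v i3 else if l = i4 then α * v i4 else 0 := ⟨_, rfl⟩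
    have hf1 : f i1 = v i1 := by rw [hf]; simp
    have hf2 : f i2 = v i2 := by rw [hf]; simp [h21]
    have hf3 : f i3 = α ^ 2 * v i3 := by rw [hf]; simp [h31, h32]
    have hf4 : f i4 = α * v i4 := by rw [hf]; simp [h41, h42, h43]
    have hf0 : ∀ l, l ≠ i1 → l ≠ i2 → l ≠ i3 → l ≠ i4 → f l = 0 := by
      intro l a b c d
      rw [hf]; simp [a, b, c, d]
    have hfS : supp f = {i1, i2, i3, i4} := by
      ext l
      rw [mem_supp]
      simp only [Finset.mem_insert, Finset.mem_singleton]
      constructor
      · intro hl
        by_contra hcon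
        push_neg at hcon
        exact hl (hf0 l hcon.1 hcon.2.1 hcon.2.2.1 hcon.2.2.2)
      · rintro (rfl | rfl | rfl | rfl)
        · rw [hf1]; exact hv1
        · rw [hf2]; exact hv2
        · rw [hf3]; exact mul_ne_zero (pow_ne_zero 2 hα0) hv3
        · rw [hf4]; exact mul_ne_zero hα0 hv4
    have hfw : weight f = 4 := by
      rw [weight_eq, hfS]
      rw [Finset.card_insert_of_notMem, Finset.card_insert_of_notMem, Finset.card_pair]
      · exact h43.symm
      · simp only [Finset.mem_insert, Finset.mem_singleton, not_or]
        exact ⟨h32.symm, h42.symm⟩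
      · simp only [Finset.mem_insert, Finset.mem_singleton, not_or]
        exact ⟨h21.symm, h31.symm, h41.symm⟩
    have hfC : f ∈ C := h4 f hfw
    -- e := v + f
    have he1 : (v + f) i1 = 0 := by rw [Pi.add_apply, hf1]; exact hadd _
    have he2 : (v + f) i2 = 0 := by rw [Pi.add_apply, hf2]; exact hadd _
    have he3 : (v + f) i3 = -α * v i3 := by rw [Pi.add_apply, hf3]; linear_combination (v i3) * hα
    have he4 : (v + f) i4 = -α ^ 2 * v i4 := by
      rw [Pi.add_apply, hf4]; linear_combination (v i4) * hα
    have he0 : ∀ l, l ≠ i1 → l ≠ i2 → l ≠ i3 → l ≠ i4 → (v + f) l = v l := by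
      intro l a b c d
      rw [Pi.add_apply, hf0 l a b c d, add_zero]
    have heS : supp (v + f) = ((supp v).erase i1).erase i2 := by
      ext l
      rw [mem_supp]
      simp only [Finset.mem_erase, mem_supp]
      by_cases a : l = i1
      · subst a; simp [he1]
      by_cases b : l = i2
      · subst b; simp [he2]
      by_cases c : l = i3
      · subst c
        rw [he3]
        simp [a, b, hv3, hα0]
      by_cases d : l = i4
      · subst d
        rw [he4]
        simp [a, b, hv4, hα0]
      rw [he0 l a b c d]
      simp [a, b]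
    have hew : weight (v + f) = k - 2 := by rw [weight_eq, heS, hc2]
    have heC : v + f ∈ C := by
      apply ih (k - 2) (by omega) (v + f) _ hew
      rw [hew]
      obtain ⟨r, hr⟩ := hv
      exact ⟨r - 1, by omega⟩
    -- H e f = 1
    have hH : H n F (v + f) f = 1 := by
      rw [H_apply]
      rw [Finset.sum_eq_add i3 i4 h43.symm]
      · rw [he3, he4, hf3, hf4]
        have c3 := f4_cube hF (v i3) hv3
        have c4 := f4_cube hF (v i4) hv4
        have e1 : -α * v i3 * (α ^ 2 * v i3) ^ 2 + -α ^ 2 * v i4 * (α * v i4) ^ 2
            = -(α ^ 3 * α ^ 2 * v i3 ^ 3) - α ^ 3 * α * v i4 ^ 3 := by ring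
        rw [e1, c3, c4, hα3]
        linear_combination -hα
      · intro l _ hl
        by_cases a : l = i1
        · subst a; rw [he1, zero_mul]
        by_cases b : l = i2
        · subst b; rw [he2, zero_mul]
        rw [hf0 l a b hl.1 hl.2]
        ring
      · intro h; exact absurd (Finset.mem_univ _) h
      · intro h; exact absurd (Finset.mem_univ _) h
    have hthird := hC.third (v + f) heC f hfC
    rw [hH, one_smul] at hthird
    have : v + f + f = v := by
      funext l
      simp only [Pi.add_apply]
      rw [add_assoc, hadd, add_zero]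
    rw [this] at hthird
    exact hthird

end Cfsg.Agent.Lib.Helper20.SUG2
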