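-- helper20: SUG2 (S2412 block [II]) package [II-COMB4]: all weight-4 vectors.
import Mathlib
import Cfsg.Agent.Lib.Helper71.SUG2.Defs
import Cfsg.Agent.Lib.Helper20.SUG2.CombStep

set_option autoImplicit false

namespace Cfsg.Agent.Lib.Helper20.SUG2

open Cfsg.Agent.Lib.Helper71.SUG2

universe u

section tau

variable {F : Type u} [Field F] [Fintype F] {n : ℕ}

/-- the third point with `f = e_i + a e_j` is a monomial map. -/
theorem third_pair (hF : Fintype.card F = 2 ^ 2) (x : Fin n → F) (i j : Fin n) (hij : i ≠ j)
    (a : F) (ha : a ≠ 0) :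
    x + H n F x (E i + a • E j) • (E i + a • E j : Fin n → F) =
      fun l => if l = i then a ^ 2 * x j else if l = j then a * x i else x l := by
  classical
  have h2 : (2 : F) = 0 := f4_two hF
  have ha3 : a ^ 3 = 1 := f4_cube hF a ha
  have hH : H n F x (E i + a • E j) = x i + a ^ 2 * x j := by
    rw [H_apply, Finset.sum_eq_add i j hij]
    · simp [E, Pi.single_apply, hij, hij.symm]
      ring
    · intro l _ hl
      simp [E, Pi.single_apply, hl.1, hl.2]
    · intro h; exact absurd (Finset.mem_univ _) h
    · intro h; exact absurd (Finset.mem_univ _) h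
  rw [hH]
  funext l
  by_cases hli : l = i
  · subst hli
    simp [E, Pi.single_apply, hij]
    linear_combination (x l) * h2
  · by_cases hlj : l = j
    · subst hlj
      simp [E, Pi.single_apply, hli]
      linear_combination (x l) * h2 + (x l) * ha3
    · simp [E, Pi.single_apply, hli, hlj]

end tau

/-- [II-COMB4] -/
theorem pkgComb4 : PkgComb4.{u} := by
  intro F _ _ hF n hn C hC hpair hw v hv
  classical
  -- transpositions
  have hT : ∀ (x : Fin n → F) (i j : Fin n), i ≠ j → x ∈ C → x ∘ Equiv.swap i j ∈ C := by
    intro x i j hij hx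
    have h1 := hC.third x hx _ (hpair i j hij 1 one_ne_zero)
    rw [third_pair hF x i j hij 1 one_ne_zero] at h1
    have : (fun l => if l = i then (1 : F) ^ 2 * x j else if l = j then 1 * x i else x l)
        = x ∘ Equiv.swap i j := by
      funext l
      by_cases hli : l = i
      · subst hli; simp
      · by_cases hlj : l = j
        · subst hlj; simp [hli]
        · simp [hli, hlj, Equiv.swap_apply_of_ne_of_ne hli hlj]
    rw [this] at h1
    exact h1
  -- all permutations
  have hPerm : ∀ (π : Equiv.Perm (Fin n)) (x : Fin n → F), x ∈ C → x ∘ π ∈ C := by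
    intro π
    refine Equiv.Perm.swap_induction_on π ?_ ?_
    · intro x hx
      exact hx
    · intro f a b hab ih x hx
      have : x ∘ ⇑(Equiv.swap a b * f) = (x ∘ Equiv.swap a b) ∘ f := by
        funext l
        simp [Equiv.Perm.mul_apply]
      rw [this]
      exact ih _ (hT x a b hab hx)
  -- rescaling one coordinate
  have hR : ∀ (x : Fin n → F) (i j : Fin n), i ≠ j → x j = 0 → ∀ a : F, a ≠ 0 → x ∈ C →
      Function.update x i (a * x i) ∈ C := by
    intro x i j hij hxj a ha hx
    have h1 := hC.third x hx _ (hpair i j hij a ha)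
    rw [third_pair hF x i j hij a ha] at h1
    have h2 := hC.third _ h1 _ (hpair i j hij 1 one_ne_zero)
    rw [third_pair hF _ i j hij 1 one_ne_zero] at h2
    have : (fun l => if l = i then (1 : F) ^ 2 *
          (fun l => if l = i then a ^ 2 * x j else if l = j then a * x i else x l) j
        else if l = j then 1 *
          (fun l => if l = i then a ^ 2 * x j else if l = j then a * x i else x l) i
        else (fun l => if l = i then a ^ 2 * x j else if l = j then a * x i else x l) l)
        = Function.update x i (a * x i) := by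
      funext l
      by_cases hli : l = i
      · subst hli
        simp [Ne.symm hij]
      · by_cases hlj : l = j
        · subst hlj
          simp [hli, Function.update_of_ne hli, hxj]
        · simp [hli, hlj, Function.update_of_ne hli]
    rw [this] at h2
    exact h2
  -- rescaling a set of coordinates
  have hRS : ∀ (S : Finset (Fin n)) (x y : Fin n → F), x ∈ C → (∃ j, j ∉ S ∧ x j = 0) →
      (∀ i, i ∉ S → y i = x i) → (∀ i ∈ S, x i ≠ 0 ∧ y i ≠ 0) → y ∈ C := by
    intro S
    induction S using Finset.induction_on with
    | empty =>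
      intro x y hx _ hout _
      have : y = x := funext fun i => hout i (Finset.notMem_empty i)
      rw [this]; exact hx
    | insert i S' hi ih =>
      intro x y hx hj hout hin
      obtain ⟨j, hjS, hxj⟩ := hj
      have hji : j ≠ i := fun h => hjS (h ▸ Finset.mem_insert_self _ _)
      have hjS' : j ∉ S' := fun h => hjS (Finset.mem_insert_of_mem h)
      obtain ⟨hxi, hyi⟩ := hin i (Finset.mem_insert_self _ _)
      have hx' : Function.update x i (y i / x i * x i) ∈ C :=
        hR x i j hji.symm hxj (y i / x i) (div_ne_zero hyi hxi) hx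
      have e : y i / x i * x i = y i := by field_simp
      rw [e] at hx'
      refine ih (Function.update x i (y i)) y hx' ⟨j, hjS', ?_⟩ ?_ ?_
      · rw [Function.update_of_ne hji]; exact hxj
      · intro l hl
        by_cases hli : l = i
        · subst hli; simp
        · rw [Function.update_of_ne hli]
          apply hout
          simp [hli, hl]
      · intro l hl
        have hli : l ≠ i := fun h => hi (h ▸ hl)
        rw [Function.update_of_ne hli]
        exact hin l (Finset.mem_insert_of_mem hl)
  -- the standard support
  obtain ⟨s₀, hs₀⟩ : ∃ s₀ : Finset (Fin n), s₀ = Finset.univ.filter (fun i : Fin n => i.val < 4) :=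
    ⟨_, rfl⟩
  have hmem₀ : ∀ i : Fin n, i ∈ s₀ ↔ i.val < 4 := by
    intro i; rw [hs₀]; simp
  have hcard₀ : s₀.card = 4 := by
    have h4n : 4 ≤ n := by omega
    have : s₀ = Finset.univ.map (Fin.castLEEmb h4n) := by
      ext i
      rw [hmem₀]
      simp only [Finset.mem_map, Finset.mem_univ, true_and]
      constructor
      · intro hi
        exact ⟨⟨i.val, hi⟩, by ext; simp⟩
      · rintro ⟨k, rfl⟩
        simp
    rw [this, Finset.card_map, Finset.card_univ, Fintype.card_fin]
  have hcardv : (supp v).card = 4 := by rw [← weight_eq, hv]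
  -- a permutation moving the standard support to the support of v
  obtain ⟨π, hπ⟩ : ∃ π : Equiv.Perm (Fin n), ∀ i, i ∈ s₀ ↔ π i ∈ supp v := by
    have e : {x // x ∈ s₀} ≃ {x // x ∈ supp v} :=
      Finset.equivOfCardEq (hcard₀.trans hcardv.symm)
    refine ⟨e.extendSubtype, fun i => ?_⟩
    constructor
    · intro hi
      exact Equiv.extendSubtype_mem e i hi
    · intro hi
      by_contra hcon
      exact Equiv.extendSubtype_not_mem e i hcon hi
  -- v ∘ π is a rescaling of w
  have hvπ : v ∘ π ∈ C := by
    refine hRS s₀ (wvec n F) (v ∘ π) hw ⟨⟨4, by omega⟩, ?_, ?_⟩ ?_ ?_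
    · rw [hmem₀]; simp
    · simp [wvec]
    · intro i hi
      have h1 : ¬ (π i ∈ supp v) := fun h => hi ((hπ i).mpr h)
      rw [mem_supp] at h1
      rw [hmem₀] at hi
      simp only [Function.comp_apply, wvec, if_neg hi]
      by_contra hne
      exact h1 hne
    · intro i hi
      have h1 : π i ∈ supp v := (hπ i).mp hi
      rw [mem_supp] at h1
      rw [hmem₀] at hi
      refine ⟨?_, h1⟩
      simp [wvec, hi]
  have := hPerm π⁻¹ (v ∘ π) hvπ
  have e : (v ∘ π) ∘ ⇑π⁻¹ = v := by
    funext l
    simp
  rw [e] at this
  exact this

end Cfsg.Agent.Lib.Helper20.SUG2
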